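import Cfsg.Agent.Lib.Helper67.LSF.Defs

/-!
# Project LSF (S5286): package [CONVEX]
The set of free parts of the elements of the group is convex in the Cayley tree.
-/

set_option autoImplicit false

namespace Cfsg.Agent.Lib.Helper20.LSF

open Cfsg Cfsg.Agent.Lib.Helper67.LSF

universe u

/-- mapping the letters by a permutation of the basis preserves reducedness -/
lemma isReduced_map {X : Type u} (π : Equiv.Perm X) (L : List (X × Bool))
    (h : FreeGroup.IsReduced L) : FreeGroup.IsReduced (L.map fun ℓ => (π ℓ.1, ℓ.2)) := by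
  unfold FreeGroup.IsReduced at h ⊢
  refine List.isChain_map_of_isChain (fun ℓ : X × Bool => (π ℓ.1, ℓ.2)) ?_ h
  intro a b hab h1
  exact hab (π.injective h1)

/-- a reduced word is the normal form of its class -/
lemma toWord_mk_of_isReduced {X : Type u} [DecidableEq X] (L : List (X × Bool))
    (h : FreeGroup.IsReduced L) : (FreeGroup.mk L).toWord = L := by
  rw [FreeGroup.toWord_mk, h.reduce_eq]

/-- the free part of the inverse of `inr q * inl m` -/
lemma inv_inr_mul_inl_left {N G : Type u} [Group N] [Group G] (φ : G →* MulAut N) (q : G) (m : N) :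
    ((SemidirectProduct.inr q * SemidirectProduct.inl m : SemidirectProduct N G φ)⁻¹).left = m⁻¹ := by
  rw [mul_inv_rev, ← map_inv, ← map_inv, SemidirectProduct.mul_left, SemidirectProduct.left_inl,
    SemidirectProduct.right_inl, SemidirectProduct.left_inr, map_one, mul_one]

/-- suffixes of paths are paths -/
lemma path_suffix (hInv : PkgInv.{u}) {Ω : Type u} [Group Ω] (S : Subgroup Ω) (F : FusionSystem S)
    (A B : List (X F × Bool)) :
    ∀ q : Equiv.Perm S, Path F (A ++ B) q → ∃ q₀ : Equiv.Perm S, Path F B q₀ := by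
  induction A with
  | nil => intro q h; exact ⟨q, h⟩
  | cons ℓ A ih =>
    intro q h
    obtain ⟨x, b⟩ := ℓ
    cases b with
    | true =>
      obtain ⟨i, s, q₀, hp, -, -⟩ := (hInv S F).2.1 x (A ++ B) q h
      exact ih q₀ hp
    | false =>
      obtain ⟨i, s, q₀, hp, -, -⟩ := (hInv S F).2.2 x (A ++ B) q h
      exact ih q₀ hp

theorem pkgConvex (hPath : PkgPath.{u}) (hRed : PkgRed.{u}) (hInv : PkgInv.{u})
    (hMem : PkgMem.{u}) : PkgConvex.{u} := by
  classical
  intro Ω _ S F v L₁ L₂ hred ⟨g, hg, hgv⟩ ⟨g', hg', hgv'⟩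
  have hh : g⁻¹ * g' ∈ GG F := (GG F).mul_mem ((GG F).inv_mem hg) hg'
  have hk : (g⁻¹ * g')⁻¹ ∈ GG F := (GG F).inv_mem hh
  obtain ⟨L₀, qk, hp₀, hk₀⟩ := hPath S F _ hk
  obtain ⟨Lk, hpk, hredk, hmk⟩ := hRed S F L₀ qk hp₀
  -- the free part of `g⁻¹ * g'`, computed in two ways
  have hleft : (g⁻¹ * g').left = autF F g.right⁻¹ (FreeGroup.mk (L₁ ++ L₂)) := by
    rw [SemidirectProduct.mul_left, SemidirectProduct.inv_left, SemidirectProduct.inv_right, hgv',
      hgv, ← map_mul, inv_mul_cancel_left]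
  have hleft2 : (g⁻¹ * g').left = (FreeGroup.mk Lk)⁻¹ := by
    have h1 : g⁻¹ * g' = ((g⁻¹ * g')⁻¹)⁻¹ := (inv_inv _).symm
    rw [h1, hk₀, ← hmk]
    exact inv_inr_mul_inl_left (autF F) qk (FreeGroup.mk Lk)
  -- the moved words
  obtain ⟨f, hf⟩ : ∃ f : X F × Bool → X F × Bool,
      f = fun ℓ => (xperm F g.right⁻¹ ℓ.1, ℓ.2) := ⟨_, rfl⟩
  have hmap : ∀ L : List (X F × Bool),
      autF F g.right⁻¹ (FreeGroup.mk L) = FreeGroup.mk (L.map f) := by
    intro L
    rw [hf]
    exact autX_mk (xperm F) g.right⁻¹ L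
  have hredM : FreeGroup.IsReduced (L₁.map f ++ L₂.map f) := by
    rw [← List.map_append, hf]
    exact isReduced_map _ _ hred
  have hLk : Lk = FreeGroup.invRev (L₂.map f) ++ FreeGroup.invRev (L₁.map f) := by
    have h2 : FreeGroup.mk Lk = (FreeGroup.mk (L₁.map f ++ L₂.map f))⁻¹ := by
      rw [← List.map_append, ← hmap, ← hleft, hleft2, inv_inv]
    have h3 := congrArg FreeGroup.toWord h2
    rw [toWord_mk_of_isReduced Lk hredk, FreeGroup.toWord_inv,
      toWord_mk_of_isReduced _ hredM, FreeGroup.invRev_append] at h3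
    exact h3
  rw [hLk] at hpk
  obtain ⟨q'', hp''⟩ := path_suffix hInv S F _ _ qk hpk
  have hk' := hMem S F _ q'' hp''
  refine ⟨g * (SemidirectProduct.inr q'' *
    SemidirectProduct.inl (FreeGroup.mk (FreeGroup.invRev (L₁.map f))))⁻¹,
    (GG F).mul_mem hg ((GG F).inv_mem hk'), ?_⟩
  rw [SemidirectProduct.mul_left, inv_inr_mul_inl_left, ← FreeGroup.inv_mk, inv_inv, ← hmap, hgv,
    ← MulAut.mul_apply, ← map_mul, mul_inv_cancel, map_one, MulAut.one_apply]

end Cfsg.Agent.Lib.Helper20.LSF
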